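import Groth.Agent.RefChLib.Basic
import Groth.Agent.VanGrowLib.Main

/-!
# Additivity of the divisor term
-/

set_option autoImplicit false
set_option backward.isDefEq.respectTransparency false
set_option linter.style.haveILetI false

universe u

open CategoryTheory CategoryTheory.Limits AlgebraicGeometry TopologicalSpace
open Groth.Agent.PullbackMod Groth.Agent.DCohLib Groth.Agent.AmpleLib
open Groth.Agent.CurveLib (tmap)
open Groth.Agent.IntLib (PicRing pairing dif inv' compMod)
open Groth.Agent.Nakai (Aug cl)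
open scoped TensorProduct

noncomputable section

namespace Groth.Agent.RefChLib

variable {X : Scheme.{u}} (k : Type u) [Field k] [X.Over (Spec (CommRingCat.of k))]
  [IsProper (X ↘ Spec (CommRingCat.of k))]

omit [X.Over (Spec (CommRingCat.of k))] [IsProper (X ↘ Spec (CommRingCat.of k))] in
theorem prod_dif_mem {r : ℕ} (M : Fin r → X.Modules) (hM : ∀ i, PicF.IsInvertible (M i)) :
    ∏ i, dif (hM i) ∈ Aug X ^ r := by
  induction r with
  | zero => simp
  | succ r ih =>
    rw [Fin.prod_univ_succ, pow_succ']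
    refine Ideal.mul_mem_mul ?_ (ih (fun i => M i.succ) fun i => hM i.succ)
    rw [← neg_neg (dif (hM 0)), ← Nakai.cl_eq_neg_dif]
    exact Ideal.neg_mem_iff _ |>.2 (Nakai.cl_mem _)

variable [IsIntegral X]

include k in
omit [X.Over (Spec (CommRingCat.of k))] [IsProper (X ↘ Spec (CommRingCat.of k))] in
theorem dim_lt_succ {n : ℕ} (hn : topologicalKrullDim X = (n : WithBot ℕ∞)) (F : X.Modules) :
    topologicalKrullDim (CohB1.support F) < ((n + 1 : ℕ) : WithBot ℕ∞) :=
  lt_of_le_of_lt (Topology.IsInducing.subtypeVal.topologicalKrullDim_le.trans hn.le)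
    (by exact_mod_cast Nat.lt_succ_self n)

omit [X.Over (Spec (CommRingCat.of k))] [IsProper (X ↘ Spec (CommRingCat.of k))] in
theorem eq_genericPoint_of_dim {n : ℕ} (hn : topologicalKrullDim X = (n : WithBot ℕ∞)) {y : X}
    (h : ¬ topologicalKrullDim (closure {y} : Set X) < (n : WithBot ℕ∞)) : y = genericPoint X := by
  by_contra hne
  have hle : topologicalKrullDim (closure {y} : Set X) ≤ (n : WithBot ℕ∞) :=
    Topology.IsInducing.subtypeVal.topologicalKrullDim_le.trans hn.le
  refine IntLib.dim_closure_succ (genericPoint_specializes y) (Ne.symm hne) (le_antisymm hle (not_lt.1 h)) ?_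
  exact Topology.IsInducing.subtypeVal.topologicalKrullDim_le.trans hn.le

variable [IsLocallyNoetherian X]

/-- A free generator at the points of large dimension. -/
theorem exists_gen (hX : Pi1.IsNormalScheme X) {e : ℕ} (hn : topologicalKrullDim X = ((e + 1 : ℕ) : WithBot ℕ∞))
    {F : X.Modules} (hF : RefHull.IsRef1 F) {y : X}
    (h : ¬ topologicalKrullDim (closure {y} : Set X) < (e : WithBot ℕ∞)) :
    ∃ t : F.presheaf.stalk y, Function.Bijective fun r : X.presheaf.stalk y => r • t := by
  by_cases hy : y = genericPoint X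
  · subst hy
    exact RefOne.exists_gen_generic hF.2.2
  haveI := hF.1.1
  have hd : topologicalKrullDim (closure {y} : Set X) = (e : WithBot ℕ∞) :=
    le_antisymm (IntLib.dim_le_of_lt (by_contra fun hn' => hy (eq_genericPoint_of_dim hn hn'))) (not_lt.1 h)
  obtain ⟨t, ht, ht0⟩ := RefOne.exists_gen_codim_one hX hF (coheight_eq_one_of_dim hn hd)
  exact ⟨t, RefOne.bijective_of_span ht ht0⟩

omit [X.Over (Spec (CommRingCat.of k))] [IsProper (X ↘ Spec (CommRingCat.of k))] [IsIntegral X] in
/-- The hull is bijective where the stalk is free of rank one. -/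
theorem bijective_bidual {F : X.Modules} (hF : Coh.IsCoh F) {y : X} {t : F.presheaf.stalk y}
    (ht : Function.Bijective fun r : X.presheaf.stalk y => r • t) :
    Function.Bijective (stalkLin (RefHull.bidualMap F) y) := by
  rw [RefOne.bijective_bidual_stalk_iff hF]
  exact Module.equiv (LinearEquiv.ofBijective (LinearMap.toSpanSingleton (X.presheaf.stalk y) (F.presheaf.stalk y) t) ht)

/-- Rank one modules have the same top pairings. -/
theorem pairing_top_of_rank_one {H : X.Modules} (hH : CohB1.IsAmple H) {n : ℕ}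
    (hn : topologicalKrullDim X = (n : WithBot ℕ∞)) {F : X.Modules} (hF : Coh.IsCoh F)
    (hgen : RefHull.GenInvertible F) {z : PicRing X} (hz : z ∈ Aug X ^ n) :
    pairing k F z = pairing k (Coh.structureModule X) z := by
  haveI := EulerIneqLib.isNoetherian_proper (X := X) k
  obtain ⟨Q, φ, hQ, -, hb⟩ := exists_map_from_invertible k hH hF hgen
  rw [← pairing_eq_of_bijective k hz φ (CurveLib.isCoh_of_isInvertible hQ) hF
    (fun y hy => (eq_genericPoint_of_dim hn hy) ▸ hb), ← IntLib.pairing_iso k (unitL Q) z,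
    ← IntLib.pairing_of_mul k (Coh.structureModule X) hQ]
  refine Nakai.pairing_congr k (n := n + 1) ?_ (DevLib.isCoh_structureModule X) (dim_lt_succ k hn _)
  rw [show MonoidAlgebra.of ℤ (IntLib.Inv X) (inv' hQ) * z - z = cl hQ * z by rw [cl, sub_mul, one_mul], pow_succ']
  exact Ideal.mul_mem_mul (Nakai.cl_mem _) hz

/-- Pairings across a morphism injective at the large points. -/
theorem pairing_add_coker {d : ℕ} {z : PicRing X} (hz : z ∈ Aug X ^ d) {A B : X.Modules} (f : A ⟶ B)
    (hA : Coh.IsCoh A) (hB : Coh.IsCoh B)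
    (h : ∀ y : X, ¬ topologicalKrullDim (closure {y} : Set X) < (d : WithBot ℕ∞) →
      Function.Injective (stalkLin f y)) : pairing k B z = pairing k A z + pairing k (cokernel f) z := by
  haveI := EulerIneqLib.isNoetherian_proper (X := X) k
  have hk := QCohLib.isCoh_kernel_cokernel f hA hB
  have hi := (QCohLib.isCoh_kernel_cokernel (kernel.ι (cokernel.π f)) (QCohLib.isCoh_kernel_cokernel (cokernel.π f) hB hk.2).1 hB).1
  have hI := (QCohLib.isCoh_kernel_cokernel (cokernel.π f) hB hk.2).1
  let ψ : A ⟶ kernel (cokernel.π f) := kernel.lift _ f (cokernel.condition f)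
  haveI : Epi ψ := (inferInstanceAs (Epi (Abelian.factorThruImage f)))
  have hS : (ShortComplex.mk (kernel.ι (cokernel.π f)) (cokernel.π f) (kernel.condition _)).ShortExact :=
    ShortComplex.ShortExact.mk' (ShortComplex.exact_of_f_is_kernel _ (kernelIsKernel _))
      (inferInstanceAs (Mono (kernel.ι (cokernel.π f)))) (inferInstanceAs (Epi (cokernel.π f)))
  have h1 : pairing k B z = pairing k (kernel (cokernel.π f)) z + pairing k (cokernel f) z :=
    IntLib.pairing_shortExact k hS hI hB hk.2 z
  rw [h1, pairing_eq_of_bijective k hz ψ hA hI fun y hy => ⟨fun a b hab => h y hy ?_, (epi_iff_stalk ψ).1 inferInstance y⟩]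
  have e : ψ ≫ kernel.ι (cokernel.π f) = f := kernel.lift_ι _ _ _
  rw [← e, stalkLin_comp, LinearMap.comp_apply, LinearMap.comp_apply, hab]

omit [X.Over (Spec (CommRingCat.of k))] [IsProper (X ↘ Spec (CommRingCat.of k))] [IsIntegral X] [IsLocallyNoetherian X] in
/-- The cokernel of a twist at a point where the twisting module is free of rank one. -/
theorem nonempty_coker_tmap {A B : X.Modules} (f : A ⟶ B) [Mono f] (F : X.Modules) {y : X} {t : F.presheaf.stalk y}
    (ht : Function.Bijective fun r : X.presheaf.stalk y => r • t) :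
    Nonempty ((cokernel (tmap f F)).presheaf.stalk y ≃ₗ[X.presheaf.stalk y] (cokernel f).presheaf.stalk y) := by
  let e : X.presheaf.stalk y ≃ₗ[X.presheaf.stalk y] F.presheaf.stalk y :=
    LinearEquiv.ofBijective (LinearMap.toSpanSingleton (X.presheaf.stalk y) (F.presheaf.stalk y) t) ht
  let E : ∀ M : X.Modules, M.presheaf.stalk y ≃ₗ[X.presheaf.stalk y] (tmod M F).presheaf.stalk y := fun M =>
    ((TensorProduct.rid (X.presheaf.stalk y) (M.presheaf.stalk y)).symm.trans
      (e.lTensor (M.presheaf.stalk y))).trans (stalkTensor y M F)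
  have hE : ∀ (M : X.Modules) (v : M.presheaf.stalk y),
      E M v = stalkTensor y M F (v ⊗ₜ[X.presheaf.stalk y] e 1) := fun M v => by
    show stalkTensor y M F (e.lTensor (M.presheaf.stalk y) ((TensorProduct.rid _ _).symm v)) = _
    rw [TensorProduct.rid_symm_apply]
    rfl
  have hnat : ∀ a, stalkLin (tmap f F) y (E A a) = E B (stalkLin f y a) := fun a => by
    rw [hE, hE, stalkTensor_natural_left]
    rfl
  have hexact : ∀ {M N : X.Modules} (g : M ⟶ N),
      LinearMap.ker (stalkLin (cokernel.π g) y) = LinearMap.range (stalkLin g y) := fun {M N} g => by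
    let S : ShortComplex X.Modules := ShortComplex.mk (kernel.ι (cokernel.π g)) (cokernel.π g) (kernel.condition _)
    have hS : S.ShortExact := ShortComplex.ShortExact.mk' (ShortComplex.exact_of_f_is_kernel _ (kernelIsKernel _))
      (inferInstanceAs (Mono (kernel.ι (cokernel.π g)))) (inferInstanceAs (Epi (cokernel.π g)))
    let ψ : M ⟶ kernel (cokernel.π g) := kernel.lift _ g (cokernel.condition g)
    haveI : Epi ψ := (inferInstanceAs (Epi (Abelian.factorThruImage g)))
    have hsurj := (epi_iff_stalk ψ).1 inferInstance y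
    have e : ψ ≫ kernel.ι (cokernel.π g) = g := kernel.lift_ι _ _ _
    rw [LinearMap.exact_iff.1 (DevLib.stalk_exact hS y)]
    rw [← e, stalkLin_comp, LinearMap.range_comp_of_range_eq_top _ (LinearMap.range_eq_top.2 hsurj)]
  have hsur : ∀ {M N : X.Modules} (g : M ⟶ N), Function.Surjective (stalkLin (cokernel.π g) y) := fun g =>
    (epi_iff_stalk (cokernel.π g)).1 inferInstance y
  have hmap : (LinearMap.ker (stalkLin (cokernel.π f) y)).map (E B : B.presheaf.stalk y →ₗ[X.presheaf.stalk y] (tmod B F).presheaf.stalk y) =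
      LinearMap.ker (stalkLin (cokernel.π (tmap f F)) y) := by
    rw [hexact f, hexact (tmap f F)]
    refine le_antisymm ?_ ?_
    · rintro _ ⟨v, ⟨a, rfl⟩, rfl⟩
      exact ⟨E A a, hnat a⟩
    · rintro _ ⟨u, rfl⟩
      obtain ⟨a, rfl⟩ := (E A).surjective u
      exact ⟨stalkLin f y a, ⟨a, rfl⟩, (hnat a).symm⟩
  exact ⟨(LinearMap.quotKerEquivOfSurjective _ (hsur (tmap f F))).symm ≪≫ₗ
    (Submodule.Quotient.equiv _ _ (E B) hmap).symm ≪≫ₗ LinearMap.quotKerEquivOfSurjective _ (hsur f)⟩

/-- The pairings of a reflexive tensor product in codimension one. -/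
theorem pairing_refTensor (hX : Pi1.IsNormalScheme X) {H : X.Modules} (hH : CohB1.IsAmple H) {e : ℕ}
    (hn : topologicalKrullDim X = ((e + 1 : ℕ) : WithBot ℕ∞)) {F G : X.Modules} (hF : RefHull.IsRef1 F)
    (hG : RefHull.IsRef1 G) (M : Fin e → X.Modules) (hM : ∀ i, PicF.IsInvertible (M i)) :
    pairing k (RefPow.refTensor G F) (∏ i, dif (hM i)) + pairing k (Coh.structureModule X) (∏ i, dif (hM i)) =
      pairing k G (∏ i, dif (hM i)) + pairing k F (∏ i, dif (hM i)) := by
  haveI := EulerIneqLib.isNoetherian_proper (X := X) k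
  obtain ⟨z, hzdef⟩ : ∃ z, z = ∏ i, dif (hM i) := ⟨_, rfl⟩
  have hz : z ∈ Aug X ^ e := hzdef ▸ prod_dif_mem M hM
  obtain ⟨Q, φ, hQ, hφ, hb⟩ := exists_map_from_invertible k hH hG.1 hG.2.2
  haveI := hφ
  have hQc := CurveLib.isCoh_of_isInvertible hQ
  have hC := (QCohLib.isCoh_kernel_cokernel φ hQc hG.1).2
  have hQF := CurveLib.isCoh_tmod hQc hF.1
  have hGF := CurveLib.isCoh_tmod hG.1 hF.1
  have h2 : pairing k (tmod G F) z = pairing k (tmod Q F) z + pairing k (cokernel (tmap φ F)) z :=
    pairing_add_coker k hz (tmap φ F) hQF hGF fun y hy => by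
      obtain ⟨t, ht⟩ := exists_gen hX hn hF hy
      let ε : X.presheaf.stalk y ≃ₗ[X.presheaf.stalk y] F.presheaf.stalk y :=
        LinearEquiv.ofBijective (LinearMap.toSpanSingleton (X.presheaf.stalk y) (F.presheaf.stalk y) t) ht
      haveI : Module.Flat (X.presheaf.stalk y) (F.presheaf.stalk y) := Module.Flat.of_linearEquiv ε.symm
      intro a b hab
      obtain ⟨a, rfl⟩ := (stalkTensor y Q F).surjective a
      obtain ⟨b, rfl⟩ := (stalkTensor y Q F).surjective b
      rw [stalkTensor_natural_left, stalkTensor_natural_left] at hab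
      exact congrArg _ (Module.Flat.rTensor_preserves_injective_linearMap (stalkLin φ y)
        ((mono_iff_stalk φ).1 inferInstance y) ((stalkTensor y G F).injective hab))
  have h3 : pairing k G z = pairing k Q z + pairing k (cokernel φ) z := IntLib.pairing_coker k φ hQc hG.1 z
  have hC' := (QCohLib.isCoh_kernel_cokernel (tmap φ F) hQF hGF).2
  have hsmall : ∀ {N : X.Modules}, Coh.IsCoh N → genericPoint X ∉ CohB1.support N →
      topologicalKrullDim (CohB1.support N) ≤ (e : WithBot ℕ∞) := fun {N} hN hη =>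
    IntLib.dim_le_of_lt (VanGrow.dim_support_lt hn (DevLib.isClosed_support hN) hη)
  have hηC : genericPoint X ∉ CohB1.support (cokernel φ) := DevLib.notMem_support_coker φ hb.2
  have hηC' : genericPoint X ∉ CohB1.support (cokernel (tmap φ F)) := fun hmem => by
    obtain ⟨t, ht⟩ := RefOne.exists_gen_generic hF.2.2
    obtain ⟨E⟩ := nonempty_coker_tmap φ F ht
    exact hηC fun hs => hmem (by haveI := hs; exact E.toEquiv.subsingleton)
  have h4 : pairing k (cokernel (tmap φ F)) z = pairing k (cokernel φ) z := by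
    rw [hzdef]
    refine pairing_eq_of_stalks k M hM hC' hC (hsmall hC' hηC') (hsmall hC hηC) fun y hy => ?_
    obtain ⟨t, ht⟩ := exists_gen hX hn hF (y := y) (by rw [hy]; exact lt_irrefl _)
    exact nonempty_coker_tmap φ F ht
  have h5 : pairing k (tmod Q F) z = pairing k F z + pairing k (Coh.structureModule X) (cl hQ * z) := by
    refine (IntLib.pairing_iso k (AmpleLib.comm Q F) z).trans ?_
    show pairing k (CohB1.tensorMod F Q) z = _
    rw [← IntLib.pairing_of_mul k F hQ, ← pairing_top_of_rank_one k hH hn hF.1 hF.2.2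
      (show cl hQ * z ∈ Aug X ^ (e + 1) by rw [pow_succ']; exact Ideal.mul_mem_mul (Nakai.cl_mem _) hz),
      ← map_add]
    rw [cl, sub_mul, one_mul, add_sub_cancel]
  have h6 : pairing k Q z = pairing k (Coh.structureModule X) z + pairing k (Coh.structureModule X) (cl hQ * z) := by
    rw [← IntLib.pairing_iso k (unitL Q) z, ← IntLib.pairing_of_mul k (Coh.structureModule X) hQ, ← map_add]
    rw [cl, sub_mul, one_mul, add_sub_cancel]
  have h7 : pairing k (tmod G F) z = pairing k (RefPow.refTensor G F) z :=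
    pairing_eq_of_bijective k hz (RefHull.bidualMap (tmod G F)) hGF (RefOne.isRef1_ddual_tensor hG hF).1 fun y hy => by
      obtain ⟨a, ha⟩ := exists_gen hX hn hG hy
      obtain ⟨b, hb'⟩ := exists_gen hX hn hF hy
      exact bijective_bidual hGF (AmpleLib.bijective_stalkTensor ha hb')
  rw [← hzdef]
  linarith

end Groth.Agent.RefChLib
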