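import Groth.Agent.NakaiLib.Cut
import Groth.Agent.NakaiLib.Apps
import Groth.Agent.AmpleEmb.Generated
import Groth.Agent.S16085
import Groth.Agent.ProjBundleLib.FTQuot

/-!
# Pairings of reflexive modules of rank one
-/

set_option autoImplicit false
set_option backward.isDefEq.respectTransparency false
set_option linter.style.haveILetI false

universe u

open CategoryTheory CategoryTheory.Limits AlgebraicGeometry TopologicalSpace
open Groth.Agent.PullbackMod Groth.Agent.DCohLib Groth.Agent.AmpleLib
open Groth.Agent.CurveLib (tmap)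
open Groth.Agent.IntLib (PicRing pairing dif inv' compMod)
open Groth.Agent.Nakai (Aug cl)
open scoped TensorProduct

noncomputable section

namespace Groth.Agent.RefChLib

variable {X : Scheme.{u}}

section Points

variable [IsIntegral X]

/-- Points whose only generisation is the generic point have codimension one. -/
theorem coheight_eq_one {y : X} (hy : y ≠ genericPoint X) (h : ∀ x : X, x ⤳ y → x = y ∨ x = genericPoint X) :
    Order.coheight y = 1 := by
  refine le_antisymm (Order.coheight_le_coe_iff.2 fun z hz => ?_) (Order.one_le_iff_pos.2 (pos_iff_ne_zero.2 ?_))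
  · have hzy : z ⤳ y := hz.le
    rcases h z hzy with rfl | rfl
    · exact absurd hz (lt_irrefl _)
    · have hmax : IsMax (genericPoint X) := fun w _ => genericPoint_specializes w
      rw [Order.coheight_eq_zero.2 hmax]
      exact zero_lt_one
  · refine Order.coheight_ne_zero.2 fun hmax => hy ?_
    have h1 : y ⤳ genericPoint X := hmax (genericPoint_specializes y : y ≤ genericPoint X)
    exact (h1.antisymm (genericPoint_specializes y)).eq

/-- A point of closure dimension one less than the whole has codimension one. -/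
theorem coheight_eq_one_of_dim {e : ℕ} (hn : topologicalKrullDim X = ((e + 1 : ℕ) : WithBot ℕ∞)) {y : X}
    (hy : topologicalKrullDim (closure {y} : Set X) = (e : WithBot ℕ∞)) : Order.coheight y = 1 := by
  have hη : topologicalKrullDim (closure {genericPoint X} : Set X) = ((e + 1 : ℕ) : WithBot ℕ∞) := by
    rw [genericPoint_closure, (Homeomorph.Set.univ X).isHomeomorph.topologicalKrullDim_eq, hn]
  refine coheight_eq_one (fun h => ?_) fun x hxy => ?_
  · rw [h, hη] at hy
    exact absurd (by exact_mod_cast hy : e + 1 = e) (by omega)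
  · by_contra hcon
    push Not at hcon
    have h1 : ¬ topologicalKrullDim (closure {x} : Set X) ≤ (e : WithBot ℕ∞) :=
      IntLib.dim_closure_succ hxy hcon.1 hy
    have h2 : topologicalKrullDim (closure {x} : Set X) ≤ ((e + 1 : ℕ) : WithBot ℕ∞) :=
      Topology.IsInducing.subtypeVal.topologicalKrullDim_le.trans hn.le
    have h3 : topologicalKrullDim (closure {x} : Set X) = ((e + 1 : ℕ) : WithBot ℕ∞) := by
      refine le_antisymm h2 (not_lt.1 fun h => h1 (IntLib.dim_le_of_lt h))
    exact IntLib.dim_closure_succ (genericPoint_specializes x) (Ne.symm hcon.2) h3 hη.le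

end Points

variable (k : Type u) [Field k] [X.Over (Spec (CommRingCat.of k))] [IsProper (X ↘ Spec (CommRingCat.of k))]

/-- Modules isomorphic on the points of large dimension have the same pairings. -/
theorem pairing_eq_of_bijective {d : ℕ} {z : PicRing X} (hz : z ∈ Aug X ^ d) {A B : X.Modules} (f : A ⟶ B)
    (hA : Coh.IsCoh A) (hB : Coh.IsCoh B)
    (h : ∀ y : X, ¬ topologicalKrullDim (closure {y} : Set X) < (d : WithBot ℕ∞) →
      Function.Bijective (stalkLin f y)) : pairing k A z = pairing k B z := by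
  haveI := EulerIneqLib.isNoetherian_proper (X := X) k
  have hk := QCohLib.isCoh_kernel_cokernel f hA hB
  have hz0 : ∀ N : X.Modules, Coh.IsCoh N → (∀ y : X, ¬ topologicalKrullDim (closure {y} : Set X) < (d : WithBot ℕ∞) →
      y ∉ CohB1.support N) → pairing k N z = 0 := fun N hN hout => by
    refine Nakai.pairing_mem_eq_zero k hz hN ?_
    by_contra hd
    obtain ⟨p, hp, hp'⟩ := (HilbLib.not_dim_lt_iff (DevLib.isClosed_support hN) d).1 hd
    refine hout (p (Fin.last d)) (fun hlt => (HilbLib.not_dim_lt_iff isClosed_closure d).2 ⟨p, fun i => ?_, hp'⟩ hlt)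
      (hp _)
    rcases (Fin.le_last i).eq_or_lt with rfl | hi
    · exact subset_closure (Set.mem_singleton _)
    · exact (hp' i _ hi).1.mem_closure
  have himg := (QCohLib.isCoh_kernel_cokernel (kernel.ι f) hk.1 hA).2
  let ψ : cokernel (kernel.ι f) ⟶ B := cokernel.desc _ f (kernel.condition f)
  haveI : Mono ψ := (inferInstanceAs (Mono (Abelian.factorThruCoimage f)))
  have hψs : ∀ y : X, ¬ topologicalKrullDim (closure {y} : Set X) < (d : WithBot ℕ∞) →
      y ∉ CohB1.support (cokernel ψ) := fun y hy => DevLib.notMem_support_coker ψ fun b => by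
    obtain ⟨a, ha⟩ := (h y hy).2 b
    refine ⟨stalkLin (cokernel.π (kernel.ι f)) y a, ?_⟩
    rw [← LinearMap.comp_apply, ← stalkLin_comp]
    exact (congrArg (fun g => stalkLin g y a) (cokernel.π_desc _ f (kernel.condition f))).trans ha
  have hks : ∀ y : X, ¬ topologicalKrullDim (closure {y} : Set X) < (d : WithBot ℕ∞) →
      y ∉ CohB1.support (kernel f) := fun y hy hmem => hmem (subsingleton_of_forall_eq 0 fun v => by
    refine (mono_iff_stalk (kernel.ι f)).1 inferInstance y ((h y hy).1 ?_)
    rw [map_zero, map_zero, ← LinearMap.comp_apply, ← stalkLin_comp, kernel.condition, DevLib.stalkLin_zero]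
    rfl)
  rw [IntLib.pairing_coker k (kernel.ι f) hk.1 hA, hz0 _ hk.1 hks, zero_add,
    IntLib.pairing_coker k ψ himg hB, hz0 _ (QCohLib.isCoh_kernel_cokernel ψ himg hB).2 hψs, add_zero]

/-- Modules with the same stalks at the points of top dimension have the same pairings. -/
theorem pairing_eq_of_stalks {r : ℕ} (M : Fin r → X.Modules) (hM : ∀ i, PicF.IsInvertible (M i)) {A B : X.Modules}
    (hA : Coh.IsCoh A) (hB : Coh.IsCoh B)
    (hdA : topologicalKrullDim (CohB1.support A) ≤ (r : WithBot ℕ∞))
    (hdB : topologicalKrullDim (CohB1.support B) ≤ (r : WithBot ℕ∞))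
    (h : ∀ y : X, topologicalKrullDim (closure {y} : Set X) = (r : WithBot ℕ∞) →
      Nonempty (A.presheaf.stalk y ≃ₗ[X.presheaf.stalk y] B.presheaf.stalk y)) :
    pairing k A (∏ i, dif (hM i)) = pairing k B (∏ i, dif (hM i)) := by
  classical
  haveI := EulerIneqLib.isNoetherian_proper (X := X) k
  have hfin : ∀ {N : X.Modules}, Coh.IsCoh N → topologicalKrullDim (CohB1.support N) ≤ (r : WithBot ℕ∞) →
      ∃ s : Finset X, ∀ ξ : X, ξ ∈ s ↔ ξ ∈ CohB1.support N ∧ topologicalKrullDim (closure ({ξ} : Set X)) = r :=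
    fun {N} hN hd => by
      obtain ⟨S, hirr, hsup⟩ := NoetherianSpace.exists_finset_irreducible
        (⟨CohB1.support N, DevLib.isClosed_support hN⟩ : Closeds X)
      have hmem : ∀ y, y ∈ CohB1.support N ↔ ∃ c ∈ S, y ∈ c := fun y => by
        rw [← DevLib.mem_sup_closeds, ← hsup]
        rfl
      have hg : ∀ c : S, ∃ x, IsGenericPoint x ((c : Closeds X) : Set X) := fun c =>
        QuasiSober.sober (hirr c) (c : Closeds X).isClosed
      choose g hg' using hg
      refine ⟨(Finset.univ.image g).filter fun ξ => topologicalKrullDim (closure ({ξ} : Set X)) = r, fun ξ => ?_⟩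
      rw [Finset.mem_filter]
      constructor
      · rintro ⟨hξ, hξd⟩
        obtain ⟨c, -, rfl⟩ := Finset.mem_image.1 hξ
        exact ⟨(hmem _).2 ⟨c, c.2, (hg' c).mem⟩, hξd⟩
      · rintro ⟨hξ, hξd⟩
        obtain ⟨c, hc, hξc⟩ := (hmem ξ).1 hξ
        refine ⟨Finset.mem_image.2 ⟨⟨c, hc⟩, Finset.mem_univ _, ?_⟩, hξd⟩
        by_contra hne
        refine IntLib.dim_closure_succ ((hg' ⟨c, hc⟩).specializes hξc) hne hξd ?_
        exact le_trans (Topology.IsEmbedding.inclusion (by
          rw [(hg' ⟨c, hc⟩).def]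
          exact fun y hy => (hmem y).2 ⟨c, hc, hy⟩ : closure {g ⟨c, hc⟩} ⊆ CohB1.support N)).isInducing.topologicalKrullDim_le hd
  obtain ⟨sA, hsA⟩ := hfin hA hdA
  obtain ⟨sB, hsB⟩ := hfin hB hdB
  have hs : sA = sB := Finset.ext fun y => by
    rw [hsA, hsB]
    refine and_congr_left fun hy => ?_
    obtain ⟨e⟩ := h y hy
    exact not_congr ⟨fun hs => by haveI := hs; exact e.symm.toEquiv.subsingleton,
      fun hs => by haveI := hs; exact e.toEquiv.subsingleton⟩
  rw [(IntLib.pairing_decomp k M hM hA hdA sA hsA).2, (IntLib.pairing_decomp k M hM hB hdB sB hsB).2, hs]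
  refine Finset.sum_congr rfl fun y hy => ?_
  obtain ⟨e⟩ := h y ((hsB y).1 hy).2
  rw [e.length_eq]

omit [X.Over (Spec (CommRingCat.of k))] [IsProper (X ↘ Spec (CommRingCat.of k))] in
/-- Twisting keeps bijectivity at a point. -/
theorem bijective_tmap {A B : X.Modules} (f : A ⟶ B) (E : X.Modules) {x : X} (h : Function.Bijective (stalkLin f x)) :
    Function.Bijective (stalkLin (tmap f E) x) := by
  have e : (stalkLin (tmap f E) x) ∘ (stalkTensor x A E) =
      (stalkTensor x B E) ∘ ((LinearEquiv.ofBijective _ h).rTensor (E.presheaf.stalk x)) :=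
    funext fun z => stalkTensor_natural_left x f z
  refine (Function.Bijective.of_comp_iff _ (stalkTensor x A E).bijective).1 ?_
  exact (congrArg Function.Bijective e).mpr ((stalkTensor x B E).bijective.comp (LinearEquiv.bijective _))

section Ref

variable [IsIntegral X]

include k in
/-- A map from an invertible module, bijective at the generic point. -/
theorem exists_map_from_invertible {H : X.Modules} (hH : CohB1.IsAmple H) {G : X.Modules} (hG : Coh.IsCoh G)
    (hgen : RefHull.GenInvertible G) :
    ∃ (Q : X.Modules) (φ : Q ⟶ G), PicF.IsInvertible Q ∧ Mono φ ∧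
      Function.Bijective (stalkLin φ (genericPoint X)) := by
  haveI := EulerIneqLib.isNoetherian_proper (X := X) k
  obtain ⟨N, hN⟩ := AmpleEmb.eventually_isGloballyGenerated hH hG
  obtain ⟨P, hPdef⟩ : ∃ P, P = CohB1.tensorPow H N := ⟨_, rfl⟩
  have hP : PicF.IsInvertible P := hPdef ▸ isInvertible_tensorPow hH.1 N
  obtain ⟨P', hP', ⟨ι⟩⟩ := AmpleEmb.exists_isInverseOf hP
  have hgG : Curv2.IsGloballyGenerated (CohB1.tensorMod G P) := hPdef ▸ hN N le_rfl
  obtain ⟨e, he⟩ := RefOne.exists_gen_generic hgen
  obtain ⟨eP, heP⟩ := ParaFLib.exists_stalk_gen hP (genericPoint X)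
  have hb := AmpleLib.bijective_stalkTensor he heP
  obtain ⟨t, ht⟩ : ∃ t : Coh.structureModule X ⟶ tmod G P, stalkLin t (genericPoint X) (ParaFLib.oneG _) ≠ 0 := by
    have hspan := ProjBundleLib.span_germ_of_isGloballyGenerated hgG (genericPoint X)
    obtain ⟨σ, hσ⟩ : ∃ σ : Γ(tmod G P, ⊤), (tmod G P).presheaf.germ ⊤ (genericPoint X) trivial σ ≠ 0 := by
      by_contra hno
      push Not at hno
      have h0 : stalkTensor (genericPoint X) G P (e ⊗ₜ eP) ∈ (⊥ : Submodule (X.presheaf.stalk (genericPoint X)) ((tmod G P).presheaf.stalk (genericPoint X))) := by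
        refine (le_of_eq_of_le hspan.symm (Submodule.span_le.2 ?_)) Submodule.mem_top
        rintro _ ⟨σ, rfl⟩
        exact hno σ
      rw [Submodule.mem_bot] at h0
      exact one_ne_zero (hb.1 ((one_smul _ _).trans (h0.trans (zero_smul _ _).symm)))
    refine ⟨DCohLib.secHom _ σ, fun h0 => hσ ?_⟩
    have h1 := stalkLin_germ (DCohLib.secHom (tmod G P) σ) (U := ⊤) (genericPoint X) trivial (1 : Γ(X, ⊤))
    rw [← AmpleLib.sec_secHom (L := tmod G P) σ]
    exact h1.symm.trans h0
  have htb : Function.Bijective (stalkLin t (genericPoint X)) := by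
    have hfield : IsField (X.presheaf.stalk (genericPoint X)) := RefOne.isField_gen
    obtain ⟨a, ha⟩ := hb.2 (stalkLin t (genericPoint X) (ParaFLib.oneG _))
    have ha0 : a ≠ 0 := fun h => ht (by rw [← ha, h]; exact zero_smul _ _)
    obtain ⟨a', ha'⟩ := hfield.mul_inv_cancel ha0
    refine ⟨(injective_iff_map_eq_zero _).2 fun z hz => ?_, fun z => ?_⟩
    · obtain ⟨r, rfl⟩ := (ParaFLib.bijective_oneG (genericPoint X)).2 z
      rw [map_smul, ← ha] at hz
      have : r * a = 0 := hb.1 ((mul_smul _ _ _).trans (hz.trans (zero_smul _ _).symm))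
      rw [show r = r * a * a' by rw [mul_assoc, ha', mul_one], this, zero_mul]
      exact zero_smul _ _
    · obtain ⟨r, rfl⟩ := hb.2 z
      refine ⟨(r * a') • ParaFLib.oneG _, ?_⟩
      rw [map_smul, ← ha]
      show (r * a') • a • _ = r • _
      rw [← mul_smul, mul_assoc, mul_comm a' a, ha', mul_one]
  let φ : P' ⟶ G := (unitL P').inv ≫ tmap t P' ≫ (assoc G P P' ≪≫ tIso (Iso.refl G) ι ≪≫ unitR G).hom
  have hφ : Function.Bijective (stalkLin φ (genericPoint X)) := by
    rw [stalkLin_comp, LinearMap.coe_comp, stalkLin_comp, LinearMap.coe_comp]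
    refine ((HilbLib.stalkLin_bijective_of_iso _ _).comp (bijective_tmap t P' htb)).comp ?_
    exact HilbLib.stalkLin_bijective_of_iso (unitL P').symm _
  refine ⟨P', φ, hP', ?_, hφ⟩
  exact CurveLib.mono_of_generic_injective (fun O σ hσ => ParaFLib.eq_zero_of_germ_generic hP' σ hσ) φ hφ.1

end Ref

end Groth.Agent.RefChLib
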