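import Groth.Agent.RefChLib.KGroup
import Groth.Agent.IntLib.Pairing

/-!
# The action of invertible classes on `K₀`
-/

set_option autoImplicit false
set_option backward.isDefEq.respectTransparency false
set_option linter.style.haveILetI false

universe u

open CategoryTheory CategoryTheory.Limits AlgebraicGeometry TopologicalSpace
open Groth.Agent.PullbackMod Groth.Agent.DCohLib Groth.Agent.AmpleLib Groth.Agent.DevLib
open Groth.Agent.CurveLib (tmap tensR)
open Groth.Agent.IntLib (PicRing compMod MCls mk inv' dif)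
open scoped TensorProduct

noncomputable section

namespace Groth.Agent.RefChLib

variable {X : Scheme.{u}} [AlgebraicGeometry.IsNoetherian X] (δ : X → ℤ) (n : ℤ)

omit [AlgebraicGeometry.IsNoetherian X] in
/-- Modules of small dimension are stable under twists. -/
theorem cohLe_tensor [IsLocallyNoetherian X] {b : ℤ} {N : X.Modules} (hN : PicF.IsInvertible N) {F : X.Modules}
    (hF : Cyc.CohLe δ b F) : Cyc.CohLe δ b (tmod F N) :=
  ⟨CurveLib.isCoh_tmod hF.1 (CurveLib.isCoh_of_isInvertible hN), fun x hx => hF.2 x (by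
    obtain ⟨e⟩ := HilbLib.nonempty_stalk_equiv hN F x
    exact e.symm.toEquiv.nontrivial)⟩

/-- Twisting by an invertible module. -/
def tw {N : X.Modules} (hN : PicF.IsInvertible N) : KG δ n →+ KG δ n :=
  QuotientAddGroup.lift _ (FreeAbelianGroup.lift fun F => kcl δ n (tmod F.1 N)) (by
    refine (AddSubgroup.closure_le _).2 ?_
    rintro x ⟨S, h₁, h₂, h₃, hS, rfl⟩
    simp only [SetLike.mem_coe, AddMonoidHom.mem_ker, map_sub, FreeAbelianGroup.lift_apply_of]
    have := K0ResLib.clSub_add (P := Cyc.CohLe δ n)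
      (CurveLib.shortExact_tensR hS fun x => CurveLib.freeAt_one_of_isInvertible hN x)
      (cohLe_tensor δ hN h₁) (cohLe_tensor δ hN h₂) (cohLe_tensor δ hN h₃)
    change kcl δ n (tmod S.X₂ N) = kcl δ n (tmod S.X₁ N) + kcl δ n (tmod S.X₃ N) at this
    rw [this]; abel)

theorem tw_kcl {N : X.Modules} (hN : PicF.IsInvertible N) (hle : ∀ x : X, δ x ≤ n) {F : X.Modules}
    (hF : Coh.IsCoh F) : tw δ n hN (kcl δ n F) = kcl δ n (tmod F N) := by
  show tw δ n hN (KZero.clSub _ F) = _
  rw [K0ResLib.clSub_of (cohLe_of_isCoh δ n hle hF)]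
  exact (QuotientAddGroup.lift_mk' _ _ _).trans (FreeAbelianGroup.lift_apply_of _ _)

omit [AlgebraicGeometry.IsNoetherian X] in
/-- An endomorphism is determined on classes. -/
theorem ext_kcl {f g : KG δ n →+ KG δ n}
    (h : ∀ F : X.Modules, Coh.IsCoh F → f (kcl δ n F) = g (kcl δ n F)) : f = g := by
  refine QuotientAddGroup.addMonoidHom_ext _ (FreeAbelianGroup.lift_ext _ _ fun F => ?_)
  have := h F.1 F.2.1
  simp only [kcl, K0ResLib.clSub_of F.2] at this
  exact this

variable (hle : ∀ x : X, δ x ≤ n)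

/-- The action of the invertible classes. -/
def twC : IntLib.Inv X →* AddMonoid.End (KG δ n) where
  toFun g := tw δ n g.2.choose_spec.1
  map_one' := ext_kcl δ n fun F hF => by
    rw [tw_kcl δ n _ hle hF]
    show kcl δ n _ = kcl δ n F
    obtain ⟨e⟩ := IntLib.mk_eq_mk.1 (1 : IntLib.Inv X).2.choose_spec.2
    exact kcl_iso δ n hle (AmpleLib.tIso (Iso.refl F) e ≪≫ AmpleLib.unitR F)
  map_mul' g h := ext_kcl δ n fun F hF => by
    show tw δ n (g * h).2.choose_spec.1 (kcl δ n F) =
      tw δ n g.2.choose_spec.1 (tw δ n h.2.choose_spec.1 (kcl δ n F))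
    rw [tw_kcl δ n (g * h).2.choose_spec.1 hle hF, tw_kcl δ n h.2.choose_spec.1 hle hF,
      tw_kcl δ n g.2.choose_spec.1 hle (CurveLib.isCoh_tmod hF (CurveLib.isCoh_of_isInvertible h.2.choose_spec.1))]
    obtain ⟨e⟩ := IntLib.mk_eq_mk.1 ((g * h).2.choose_spec.2.trans
      ((congrArg₂ (· * ·) h.2.choose_spec.2.symm g.2.choose_spec.2.symm).symm.trans
        (mul_comm _ _)).symm)
    exact kcl_iso δ n hle (AmpleLib.tIso (Iso.refl F) e ≪≫ (AmpleLib.assoc F _ _).symm)

theorem twC_inv' {N : X.Modules} (hN : PicF.IsInvertible N) {F : X.Modules} (hF : Coh.IsCoh F) :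
    twC δ n hle (inv' hN) (kcl δ n F) = kcl δ n (tmod F N) := by
  show tw δ n (inv' hN).2.choose_spec.1 (kcl δ n F) = _
  rw [tw_kcl δ n (inv' hN).2.choose_spec.1 hle hF]
  obtain ⟨e⟩ := IntLib.mk_eq_mk.1 (inv' hN).2.choose_spec.2
  exact kcl_iso δ n hle (AmpleLib.tIso (Iso.refl F) e)

/-- The action of the group ring. -/
def act : PicRing X →+* AddMonoid.End (KG δ n) :=
  MonoidAlgebra.liftNCRingHom (Int.castRingHom _) (twC δ n hle) fun a _ => Int.cast_commute a _

theorem act_of (g : IntLib.Inv X) : act δ n hle (MonoidAlgebra.of ℤ _ g) = twC δ n hle g := by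
  simp [act, MonoidAlgebra.liftNCRingHom]

variable (hlt : ∀ x y : X, x ⤳ y → x ≠ y → δ y < δ x)
include hlt

/-- `1 - [N]` lowers the dimension of the support. -/
theorem act_dif_mem {N : X.Modules} (hN : PicF.IsInvertible N) {b : ℤ} {c : KG δ n} (hc : c ∈ fil δ n b) :
    act δ n hle (dif hN) c ∈ fil δ n (b - 1) := by
  induction hc using AddSubgroup.closure_induction with
  | mem c hc =>
    obtain ⟨F, hF, rfl⟩ := hc
    rw [dif, map_sub, map_one, act_of]
    show kcl δ n F - twC δ n hle (inv' hN) (kcl δ n F) ∈ _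
    rw [twC_inv' δ n hle hN hF.1]
    have hT := cohLe_tensor δ hN hF
    refine kcl_sub_mem_of_stalks δ n hle hlt hF.1 hT.1 (fun x hx => ?_) (fun x hx => ?_) fun y _ => ?_
    · have := hF.2 x (not_subsingleton_iff_nontrivial.1 hx); omega
    · have := hT.2 x (not_subsingleton_iff_nontrivial.1 hx); omega
    · obtain ⟨e⟩ := HilbLib.nonempty_stalk_equiv hN F y
      exact ⟨e.symm⟩
  | zero => rw [map_zero]; exact zero_mem _
  | add x y _ _ hx hy => rw [map_add]; exact add_mem hx hy
  | neg x _ hx => rw [map_neg]; exact neg_mem hx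

/-- A product of `r` differences lowers the dimension by `r`. -/
theorem act_prod_mem {r : ℕ} (M : Fin r → X.Modules) (hM : ∀ i, PicF.IsInvertible (M i)) :
    ∀ {b : ℤ} {c : KG δ n}, c ∈ fil δ n b → act δ n hle (∏ i, dif (hM i)) c ∈ fil δ n (b - r) := by
  induction r with
  | zero => intro b c hc; simpa [Fin.prod_univ_zero] using hc
  | succ r ih =>
    intro b c hc
    rw [Fin.prod_univ_succ, map_mul]
    have h := act_dif_mem δ n hle hlt (hM 0) (ih (fun i => M i.succ) (fun i => hM i.succ) hc)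
    have e : b - (r : ℤ) - 1 = b - ((r + 1 : ℕ) : ℤ) := by push_cast; ring
    rw [e] at h
    exact h

omit hlt in
/-- The alternating sum over subfamilies is the action of the product of differences. -/
theorem act_prod {r : ℕ} (M : Fin r → X.Modules) (hM : ∀ i, PicF.IsInvertible (M i)) {F : X.Modules}
    (hF : Coh.IsCoh F) :
    act δ n hle (∏ i, dif (hM i)) (kcl δ n F) = ∑ I : Finset (Fin r), ((-1 : ℤ) ^ I.card) •
      kcl δ n (CohB1.tensorMod (FGA.tensorList ((I.sort (· ≤ ·)).map M)) F) := by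
  classical
  simp only [dif, Finset.prod_sub, Finset.prod_const_one, mul_one, Finset.powerset_univ, map_sum]
  rw [AddMonoidHom.finsetSum_apply]
  refine Finset.sum_congr rfl fun I _ => ?_
  rw [← map_prod, show ((-1 : PicRing X) ^ I.card * MonoidAlgebra.of ℤ _ (∏ i ∈ I, inv' (hM i))) =
      ((-1 : ℤ) ^ I.card) • MonoidAlgebra.of ℤ _ (∏ i ∈ I, inv' (hM i)) by
    rw [zsmul_eq_mul]; push_cast; rfl, map_zsmul, act_of]
  show ((-1 : ℤ) ^ I.card) • (twC δ n hle (∏ i ∈ I, inv' (hM i)) (kcl δ n F)) = _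
  refine congrArg _ ?_
  generalize hg : ∏ i ∈ I, inv' (hM i) = g
  show tw δ n g.2.choose_spec.1 (kcl δ n F) = _
  rw [tw_kcl δ n _ hle hF]
  have h1 : mk g.2.choose = mk (FGA.tensorList ((I.sort (· ≤ ·)).map M)) := by
    rw [g.2.choose_spec.2, IntLib.mk_finset_list, ← hg, Submonoid.coe_finsetProd]
    rfl
  obtain ⟨e⟩ := IntLib.mk_eq_mk.1 h1
  exact kcl_iso δ n hle (AmpleLib.tIso (Iso.refl F) e ≪≫ AmpleLib.comm F _)

end Groth.Agent.RefChLib
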