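import Groth.Agent.RefChLib.Additive
import Groth.Agent.DegDevLib.Dim
import Groth.Agent.K0ResLib.Basic
import Groth.Prelude.Def_ChowK

/-!
# The filtration of `K₀` by the dimension of the support
-/

set_option autoImplicit false
set_option backward.isDefEq.respectTransparency false
set_option linter.style.haveILetI false

universe u

open CategoryTheory CategoryTheory.Limits AlgebraicGeometry TopologicalSpace
open Groth.Agent.PullbackMod Groth.Agent.DCohLib Groth.Agent.AmpleLib Groth.Agent.DevLib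
open Groth.Agent.CurveLib (tmap tensR)
open Groth.Agent.IntLib (compMod MCls mk Inv inv')
open scoped TensorProduct

noncomputable section

namespace Groth.Agent.RefChLib

variable {X : Scheme.{u}} (δ : X → ℤ) (n : ℤ)

/-- The group of classes. -/
abbrev KG : Type (u + 1) := KZero.K0sub (Cyc.CohLe δ n)

/-- The class of a module. -/
abbrev kcl (F : X.Modules) : KG δ n := KZero.clSub (Cyc.CohLe δ n) F

/-- The subgroup of classes of small support. -/
def fil (b : ℤ) : AddSubgroup (KG δ n) :=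
  AddSubgroup.closure {c | ∃ F : X.Modules, Cyc.CohLe δ b F ∧ c = kcl δ n F}

theorem toK0CohQuot_eq_iff {b : ℤ} {F G : X.Modules} :
    Cyc.toK0CohQuot δ n b F = Cyc.toK0CohQuot δ n b G ↔ kcl δ n F - kcl δ n G ∈ fil δ n b :=
  QuotientAddGroup.eq_iff_sub_mem

theorem kcl_mem_fil {b : ℤ} {F : X.Modules} (hF : Coh.IsCoh F) (h : ∀ x ∈ CohB1.support F, δ x ≤ b) :
    kcl δ n F ∈ fil δ n b :=
  AddSubgroup.subset_closure ⟨F, ⟨hF, fun x hx => h x (not_subsingleton_iff_nontrivial.2 hx)⟩, rfl⟩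

theorem fil_mono {b c : ℤ} (h : b ≤ c) : fil δ n b ≤ fil δ n c :=
  AddSubgroup.closure_mono fun _ ⟨F, hF, he⟩ => ⟨F, ⟨hF.1, fun x hx => (hF.2 x hx).trans h⟩, he⟩

theorem kcl_isZero {M : X.Modules} (h : IsZero M) : kcl δ n M = 0 := by
  by_cases hM : Cyc.CohLe δ n M
  · have hS : (ShortComplex.mk (0 : M ⟶ M) (0 : M ⟶ M) zero_comp).ShortExact :=
      { exact := ShortComplex.exact_of_isZero_X₂ _ h
        mono_f := ⟨fun _ _ _ => h.eq_of_tgt _ _⟩
        epi_g := ⟨fun _ _ _ => h.eq_of_src _ _⟩ }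
    simpa using K0ResLib.clSub_add hS hM hM hM
  · exact dif_neg hM

/-- Nothing lives in negative dimensions. -/
theorem fil_eq_bot {b : ℤ} (hb : b < 0) (h0 : ∀ x, 0 ≤ δ x) : fil δ n b = ⊥ := by
  rw [fil, AddSubgroup.closure_eq_bot_iff]
  rintro c ⟨F, hF, rfl⟩
  refine kcl_isZero δ n (isZero_of_support_empty (Set.eq_empty_iff_forall_notMem.2 fun x hx => ?_))
  exact absurd (hF.2 x (not_subsingleton_iff_nontrivial.1 hx)) (by have := h0 x; omega)

variable [AlgebraicGeometry.IsNoetherian X] (hle : ∀ x : X, δ x ≤ n)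
include hle

omit [AlgebraicGeometry.IsNoetherian X] in
theorem cohLe_of_isCoh {F : X.Modules} (h : Coh.IsCoh F) : Cyc.CohLe δ n F := ⟨h, fun x _ => hle x⟩

omit [AlgebraicGeometry.IsNoetherian X] in
theorem kcl_add {S : ShortComplex X.Modules} (hS : S.ShortExact) (h₁ : Coh.IsCoh S.X₁) (h₂ : Coh.IsCoh S.X₂)
    (h₃ : Coh.IsCoh S.X₃) : kcl δ n S.X₂ = kcl δ n S.X₁ + kcl δ n S.X₃ :=
  K0ResLib.clSub_add hS (cohLe_of_isCoh δ n hle h₁) (cohLe_of_isCoh δ n hle h₂) (cohLe_of_isCoh δ n hle h₃)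

theorem kcl_coker {A B : X.Modules} (f : A ⟶ B) [Mono f] (hA : Coh.IsCoh A) (hB : Coh.IsCoh B) :
    kcl δ n B = kcl δ n A + kcl δ n (cokernel f) :=
  kcl_add δ n hle (cokerSeq_shortExact f) hA hB (QCohLib.isCoh_kernel_cokernel f hA hB).2

theorem kcl_iso {A B : X.Modules} (e : A ≅ B) : kcl δ n A = kcl δ n B := by
  by_cases hA : Coh.IsCoh A
  · rw [kcl_coker δ n hle e.hom hA (ProjCoh.isCoh_of_iso e hA), kcl_isZero δ n (isZero_cokernel_of_epi _), add_zero]
  · rw [show kcl δ n A = 0 from dif_neg fun h => hA h.1,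
      show kcl δ n B = 0 from dif_neg fun h => hA (ProjCoh.isCoh_of_iso e.symm h.1)]

variable (hlt : ∀ x y : X, x ⤳ y → x ≠ y → δ y < δ x)
include hlt

omit hle in
/-- The points of largest dimension of a closed set are finite. -/
theorem finite_top {C : Set X} (hC : IsClosed C) {b : ℤ} (hd : ∀ x ∈ C, δ x ≤ b) :
    {ξ : X | ξ ∈ C ∧ δ ξ = b}.Finite := by
  obtain ⟨S, hSf, hSc, hSi, hSU⟩ := NoetherianSpace.exists_finite_set_isClosed_irreducible (s := C) hC
  choose g hg using fun t : S => QuasiSober.sober (hSi t.1 t.2) (hSc t.1 t.2)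
  haveI := hSf.to_subtype
  refine (Set.finite_range g).subset fun ξ ⟨hξC, hξd⟩ => ?_
  have hmem : ∃ t ∈ S, ξ ∈ t := by rw [hSU] at hξC; exact hξC
  obtain ⟨t, ht, hξt⟩ := hmem
  refine ⟨⟨t, ht⟩, by_contra fun hne => ?_⟩
  have h1 := hlt _ _ ((hg ⟨t, ht⟩).specializes hξt) hne
  have h2 := hd _ (hSU ▸ Set.subset_sUnion_of_mem ht (hg ⟨t, ht⟩).mem)
  omega

/-- Classes are read off at the points of largest dimension. -/
theorem kcl_decomp {b : ℤ} {F : X.Modules} (hF : Coh.IsCoh F) (hd : ∀ x ∈ CohB1.support F, δ x ≤ b + 1)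
    (s : Finset X) (hs : ∀ ξ : X, ξ ∈ s ↔ ξ ∈ CohB1.support F ∧ δ ξ = b + 1) :
    (∀ ξ ∈ s, Module.length (X.presheaf.stalk ξ) (F.presheaf.stalk ξ) ≠ ⊤) ∧
    kcl δ n F - ∑ ξ ∈ s, ((Module.length (X.presheaf.stalk ξ) (F.presheaf.stalk ξ)).toNat : ℤ) • kcl δ n (compMod ξ) ∈
      fil δ n b := by
  classical
  let P : X.Modules → Prop := fun N =>
    (∀ ξ ∈ s, Module.length (X.presheaf.stalk ξ) (N.presheaf.stalk ξ) ≠ ⊤) ∧
    kcl δ n N - ∑ ξ ∈ s, ((Module.length (X.presheaf.stalk ξ) (N.presheaf.stalk ξ)).toNat : ℤ) • kcl δ n (compMod ξ) ∈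
      fil δ n b
  show P F
  refine devissage (CohB1.support F) P ?_ ?_ ?_ ?_ F hF subset_rfl
  · rintro A B ⟨e⟩ ⟨h1, h2⟩
    have hl : ∀ ξ : X, Module.length (X.presheaf.stalk ξ) (B.presheaf.stalk ξ) =
        Module.length (X.presheaf.stalk ξ) (A.presheaf.stalk ξ) := fun ξ =>
      (LinearEquiv.ofBijective _ (HilbLib.stalkLin_bijective_of_iso e ξ)).length_eq.symm
    refine ⟨fun ξ hξ => by rw [hl]; exact h1 ξ hξ, ?_⟩
    rw [← kcl_iso δ n hle e]
    simp only [hl]
    exact h2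
  · intro A hA
    have hl : ∀ ξ : X, Module.length (X.presheaf.stalk ξ) (A.presheaf.stalk ξ) = 0 := fun ξ => by
      haveI : Subsingleton (A.presheaf.stalk ξ) := not_not.1 fun h =>
        (Set.eq_empty_iff_forall_notMem.1 (HilbLib.support_eq_empty_of_isZero hA) ξ) h
      exact Module.length_eq_zero
    refine ⟨fun ξ _ => by rw [hl]; exact ENat.zero_ne_top, ?_⟩
    rw [kcl_isZero δ n hA]
    simp [hl]
  · intro S hS h₁ h₂ h₃ _ e₁ e₃
    have hl : ∀ ξ : X, Module.length (X.presheaf.stalk ξ) (S.X₂.presheaf.stalk ξ) =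
        Module.length (X.presheaf.stalk ξ) (S.X₁.presheaf.stalk ξ) +
          Module.length (X.presheaf.stalk ξ) (S.X₃.presheaf.stalk ξ) := fun ξ => by
      haveI := hS.mono_f
      haveI := hS.epi_g
      exact Module.length_eq_add_of_exact _ _ ((mono_iff_stalk S.f).1 inferInstance ξ)
        ((epi_iff_stalk S.g).1 inferInstance ξ) (stalk_exact hS ξ)
    refine ⟨fun ξ hξ => by rw [hl]; exact WithTop.add_ne_top.2 ⟨e₁.1 ξ hξ, e₃.1 ξ hξ⟩, ?_⟩
    have hsum : ∑ ξ ∈ s, ((Module.length (X.presheaf.stalk ξ) (S.X₂.presheaf.stalk ξ)).toNat : ℤ) • kcl δ n (compMod ξ) =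
        ∑ ξ ∈ s, ((Module.length (X.presheaf.stalk ξ) (S.X₁.presheaf.stalk ξ)).toNat : ℤ) • kcl δ n (compMod ξ) +
        ∑ ξ ∈ s, ((Module.length (X.presheaf.stalk ξ) (S.X₃.presheaf.stalk ξ)).toNat : ℤ) • kcl δ n (compMod ξ) := by
      rw [← Finset.sum_add_distrib]
      refine Finset.sum_congr rfl fun ξ hξ => ?_
      rw [hl, ENat.toNat_add (e₁.1 ξ hξ) (e₃.1 ξ hξ), Nat.cast_add, add_zsmul]
    rw [kcl_add δ n hle hS h₁ h₂ h₃, hsum, add_sub_add_comm]
    exact add_mem e₁.2 e₃.2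
  intro η _ hηT Q hQ _
  have hdη : δ η ≤ b + 1 := hd η (hηT (subset_closure rfl))
  have hzero : ∀ ξ ∈ s, ξ ≠ η → Module.length (X.presheaf.stalk ξ) (Q.presheaf.stalk ξ) = 0 := fun ξ hξ hne => by
    haveI : Subsingleton (Q.presheaf.stalk ξ) := not_not.1 fun h => by
      have h1 := hlt η ξ (hQ.supp ξ h) (Ne.symm hne)
      have h2 := ((hs ξ).1 hξ).2
      omega
    exact Module.length_eq_zero
  have hone : Module.length (X.presheaf.stalk η) (Q.presheaf.stalk η) = 1 :=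
    haveI := hQ.simple
    Module.length_eq_one _ _
  refine ⟨fun ξ hξ => ?_, ?_⟩
  · by_cases h : ξ = η
    · subst h; rw [hone]; exact ENat.one_ne_top
    · rw [hzero ξ hξ h]; exact ENat.zero_ne_top
  by_cases hη : η ∈ s
  · rw [Finset.sum_eq_single η (fun ξ hξ hne => by rw [hzero ξ hξ hne]; simp) (fun h => absurd hη h), hone]
    simp only [ENat.toNat_one, Nat.cast_one, one_zsmul]
    have hG := IntLib.isPiece_compMod η
    obtain ⟨H, p, q, hH, hp, hq, hps, hqs⟩ := exists_common hQ hG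
    have sm : ∀ N : X.Modules, Coh.IsCoh N → (∀ y ∈ CohB1.support N, η ⤳ y) → η ∉ CohB1.support N →
        kcl δ n N ∈ fil δ n b := fun N hN hsN hξ => kcl_mem_fil δ n hN fun y hy => by
      have h1 := hlt η y (hsN y hy) fun e => hξ (e ▸ hy)
      omega
    rw [kcl_coker δ n hle p hH hQ.coh, kcl_coker δ n hle q hH hG.coh, add_sub_add_left_eq_sub]
    exact sub_mem (sm _ (QCohLib.isCoh_kernel_cokernel p hH hQ.coh).2 (supp_coker p hQ.supp) (notMem_support_coker p hps))
      (sm _ (QCohLib.isCoh_kernel_cokernel q hH hG.coh).2 (supp_coker q hG.supp) (notMem_support_coker q hqs))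
  · rw [Finset.sum_eq_zero fun ξ hξ => by rw [hzero ξ hξ fun e => hη (e ▸ hξ)]; simp, sub_zero]
    refine kcl_mem_fil δ n hQ.coh fun y hy => ?_
    have hne : δ η ≠ b + 1 := fun h => hη ((hs η).2 ⟨hηT (subset_closure rfl), h⟩)
    by_cases hy' : η = y
    · subst hy'; omega
    · have := hlt η y (hQ.supp y hy) hy'
      omega

/-- Modules with the same stalks at the points of largest dimension have the same class. -/
theorem kcl_sub_mem_of_stalks {b : ℤ} {A B : X.Modules} (hA : Coh.IsCoh A) (hB : Coh.IsCoh B)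
    (hdA : ∀ x ∈ CohB1.support A, δ x ≤ b + 1) (hdB : ∀ x ∈ CohB1.support B, δ x ≤ b + 1)
    (h : ∀ y : X, δ y = b + 1 → Nonempty (A.presheaf.stalk y ≃ₗ[X.presheaf.stalk y] B.presheaf.stalk y)) :
    kcl δ n A - kcl δ n B ∈ fil δ n b := by
  classical
  have hfA := finite_top δ hlt (DevLib.isClosed_support hA) hdA
  have h1 := (kcl_decomp δ n hle hlt hA hdA hfA.toFinset fun ξ => hfA.mem_toFinset).2
  have hmem : ∀ ξ : X, ξ ∈ hfA.toFinset ↔ ξ ∈ CohB1.support B ∧ δ ξ = b + 1 := fun ξ => by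
    rw [hfA.mem_toFinset]
    refine and_congr_left fun hξ => ?_
    obtain ⟨e⟩ := h ξ hξ
    exact not_congr ⟨fun hs => by haveI := hs; exact e.symm.toEquiv.subsingleton,
      fun hs => by haveI := hs; exact e.toEquiv.subsingleton⟩
  have h2 := (kcl_decomp δ n hle hlt hB hdB hfA.toFinset hmem).2
  have hsum : ∀ ξ ∈ hfA.toFinset, ((Module.length (X.presheaf.stalk ξ) (A.presheaf.stalk ξ)).toNat : ℤ) • kcl δ n (compMod ξ) =
      ((Module.length (X.presheaf.stalk ξ) (B.presheaf.stalk ξ)).toNat : ℤ) • kcl δ n (compMod ξ) := fun ξ hξ => by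
    obtain ⟨e⟩ := h ξ (hfA.mem_toFinset.1 hξ).2
    rw [e.length_eq]
  rw [Finset.sum_congr rfl hsum] at h1
  have h3 := sub_mem h1 h2
  rwa [sub_sub_sub_cancel_right] at h3

omit hlt in
/-- A map bijective outside small dimensions preserves the class. -/
theorem kcl_sub_mem_of_bijective {b : ℤ} {A B : X.Modules} (f : A ⟶ B) (hA : Coh.IsCoh A) (hB : Coh.IsCoh B)
    (h : ∀ y : X, b < δ y → Function.Bijective (stalkLin f y)) :
    kcl δ n B - kcl δ n A ∈ fil δ n b := by
  have hk := QCohLib.isCoh_kernel_cokernel f hA hB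
  have himg := (QCohLib.isCoh_kernel_cokernel (kernel.ι f) hk.1 hA).2
  let ψ : cokernel (kernel.ι f) ⟶ B := cokernel.desc _ f (kernel.condition f)
  haveI : Mono ψ := (inferInstanceAs (Mono (Abelian.factorThruCoimage f)))
  have hψs : kcl δ n (cokernel ψ) ∈ fil δ n b :=
    kcl_mem_fil δ n (QCohLib.isCoh_kernel_cokernel ψ himg hB).2 fun y hy => le_of_not_gt fun hby =>
      DevLib.notMem_support_coker ψ (fun z => by
        obtain ⟨a, ha⟩ := (h y hby).2 z
        refine ⟨stalkLin (cokernel.π (kernel.ι f)) y a, ?_⟩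
        rw [← LinearMap.comp_apply, ← stalkLin_comp]
        exact (congrArg (fun g => stalkLin g y a) (cokernel.π_desc _ f (kernel.condition f))).trans ha) hy
  have hks : kcl δ n (kernel f) ∈ fil δ n b :=
    kcl_mem_fil δ n hk.1 fun y hy => le_of_not_gt fun hby => hy (subsingleton_of_forall_eq 0 fun v => by
      refine (mono_iff_stalk (kernel.ι f)).1 inferInstance y ((h y hby).1 ?_)
      rw [map_zero, map_zero, ← LinearMap.comp_apply, ← stalkLin_comp, kernel.condition, DevLib.stalkLin_zero]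
      rfl)
  rw [kcl_coker δ n hle ψ himg hB, kcl_coker δ n hle (kernel.ι f) hk.1 hA]
  have : kcl δ n (cokernel (kernel.ι f)) + kcl δ n (cokernel ψ) -
      (kcl δ n (kernel f) + kcl δ n (cokernel (kernel.ι f))) = kcl δ n (cokernel ψ) - kcl δ n (kernel f) := by abel
  rw [this]
  exact sub_mem hψs hks

end Groth.Agent.RefChLib
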