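import Groth.Agent.RefChLib.Twist
import Groth.Agent.AmpleEmb.TwistOne
import Groth.Agent.CompleteCurve.ProjSpace

/-!
# Projective setting
-/

set_option autoImplicit false
set_option backward.isDefEq.respectTransparency false
set_option linter.style.haveILetI false

universe u

open CategoryTheory CategoryTheory.Limits AlgebraicGeometry TopologicalSpace

noncomputable section

namespace Groth.Agent.RefChLib

/-- Projective schemes are proper and carry an ample module. -/
theorem proper_and_ample {k : Type u} [Field k] {X : Scheme.{u}} [X.Over (Spec (CommRingCat.of k))]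
    (hproj : ∃ (N : ℕ) (ι : X ⟶ CohB1.ProjSpace N k), IsClosedImmersion ι ∧
      ι ≫ CohB1.ProjSpace.toSpec N k = X ↘ Spec (CommRingCat.of k)) :
    IsProper (X ↘ Spec (CommRingCat.of k)) ∧ ∃ H : X.Modules, CohB1.IsAmple H := by
  obtain ⟨N, ι, hι, hc⟩ := hproj
  haveI := hι
  exact ⟨hc ▸ inferInstance, _, AmpleLib.isAmple_pullback ι (AmpleEmb.isAmple_twistOne N k)⟩

end Groth.Agent.RefChLib
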