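import Groth.Agent.RefChLib.KAct
import Groth.Agent.RefChLib.Setup

/-!
# Classes of reflexive modules of rank one in the filtered `K₀`
-/

set_option autoImplicit false
set_option backward.isDefEq.respectTransparency false
set_option linter.style.haveILetI false

universe u

open CategoryTheory CategoryTheory.Limits AlgebraicGeometry TopologicalSpace
open Groth.Agent.PullbackMod Groth.Agent.DCohLib Groth.Agent.AmpleLib Groth.Agent.DevLib
open Groth.Agent.CurveLib (tmap tensR)
open Groth.Agent.IntLib (PicRing compMod MCls mk inv' dif)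
open scoped TensorProduct

noncomputable section

namespace Groth.Agent.RefChLib

variable {X : Scheme.{u}}

section Dim

variable {δ : X → ℤ} (hδ : Cyc.IsDimFun X δ)
include hδ

/-- A dimension function drops strictly. -/
theorem dimFun_lt (x y : X) (h : x ⤳ y) (hne : x ≠ y) : δ y < δ x := (hδ x y h hne).1

variable [IsIntegral X] {n : ℤ} (hη : δ (genericPoint X) = n)
include hη

theorem dimFun_le (x : X) : δ x ≤ n := by
  by_cases h : genericPoint X = x
  · rw [← h, hη]
  · exact hη ▸ (dimFun_lt hδ _ _ (genericPoint_specializes x) h).le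

theorem eq_genericPoint_of_dimFun {x : X} (h : n ≤ δ x) : x = genericPoint X := by
  by_contra hne
  have := dimFun_lt hδ _ _ (genericPoint_specializes x) (Ne.symm hne)
  omega

theorem coheight_eq_one_of_dimFun {x : X} (h : δ x = n - 1) : Order.coheight x = 1 := by
  refine coheight_eq_one (fun e => ?_) fun z hz => ?_
  · rw [e, hη] at h
    omega
  · by_contra hcon
    push Not at hcon
    have h1 := dimFun_lt hδ _ _ hz hcon.1
    have h2 := dimFun_lt hδ _ _ (genericPoint_specializes z) (Ne.symm hcon.2)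
    omega

omit [IsIntegral X] hη in
/-- The dimension function is realised by chains. -/
theorem exists_chain : ∀ (m : ℕ) (x y : X), x ⤳ y → δ x - δ y = m →
    ∃ p : Fin (m + 1) → X, p (Fin.last m) = x ∧ p 0 = y ∧ (∀ i, x ⤳ p i) ∧ ∀ i j, i < j → p j ⤳ p i ∧ p i ≠ p j := by
  intro m
  induction m using Nat.strong_induction_on with
  | _ m ih =>
    intro x y hxy hm
    by_cases hne : x = y
    · subst hne
      obtain rfl : m = 0 := by omega
      exact ⟨fun _ => x, rfl, rfl, fun _ => specializes_rfl, fun i j h => absurd h (by omega)⟩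
    obtain ⟨z, hxz, hzy, hzm, hzne⟩ : ∃ z, x ⤳ z ∧ z ⤳ y ∧ δ x = δ z + 1 ∧ x ≠ z := by
      have key : ∀ (q : ℕ) (w : X), x ⤳ w → w ⤳ y → w ≠ x → (δ x - δ w).toNat = q →
          ∃ z, x ⤳ z ∧ z ⤳ y ∧ δ x = δ z + 1 ∧ x ≠ z := by
        intro q
        induction q using Nat.strong_induction_on with
        | _ q ihq =>
          intro w hxw hwy hwx hq
          by_cases himm : ∀ z : X, x ⤳ z → z ⤳ w → z = x ∨ z = w
          · exact ⟨w, hxw, hwy, (hδ x w hxw hwx.symm).2 himm, hwx.symm⟩
          · push Not at himm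
            obtain ⟨z, h1, h2, h3, h4⟩ := himm
            have := dimFun_lt hδ z w h2 h4
            have := dimFun_lt hδ x z h1 h3.symm
            exact ihq _ (by omega) z h1 (h2.trans hwy) h3 rfl
      exact key _ y hxy specializes_rfl (Ne.symm hne) rfl
    have hlt := dimFun_lt hδ x y hxy hne
    obtain ⟨m', rfl⟩ : ∃ m', m = m' + 1 := ⟨m - 1, by omega⟩
    obtain ⟨p, hpl, hp0, hpz, hp⟩ := ih m' (by omega) z y hzy (by omega)
    refine ⟨Fin.snoc p x, Fin.snoc_last _ _, ?_, fun i => ?_, fun i j hij => ?_⟩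
    · rw [show (0 : Fin (m' + 1 + 1)) = Fin.castSucc 0 from rfl, Fin.snoc_castSucc, hp0]
    · induction i using Fin.lastCases with
      | last => rw [Fin.snoc_last]
      | cast i => rw [Fin.snoc_castSucc]; exact hxz.trans (hpz i)
    · induction j using Fin.lastCases with
      | last =>
        induction i using Fin.lastCases with
        | last => exact absurd hij (lt_irrefl _)
        | cast i =>
          rw [Fin.snoc_last, Fin.snoc_castSucc]
          refine ⟨hxz.trans (hpz i), fun e => hzne ?_⟩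
          exact (hxz.antisymm (e ▸ hpz i)).eq
      | cast j =>
        induction i using Fin.lastCases with
        | last => exact absurd hij (not_lt.2 (Fin.le_last _))
        | cast i =>
          rw [Fin.snoc_castSucc, Fin.snoc_castSucc]
          exact hp i j (Fin.castSucc_lt_castSucc_iff.1 hij)

theorem dimFun_nonneg {d : ℕ} (hd : topologicalKrullDim X ≤ (d : WithBot ℕ∞)) (hn : n = d) (x : X) : 0 ≤ δ x := by
  by_contra hneg
  have hx := dimFun_le hδ hη x
  obtain ⟨p, -, -, -, hp⟩ := exists_chain hδ (δ (genericPoint X) - δ x).toNat (genericPoint X) x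
    (genericPoint_specializes x) (by rw [hη]; omega)
  refine (HilbLib.not_dim_lt_iff isClosed_univ _).2 ⟨p, fun _ => trivial, hp⟩ ?_
  rw [(Homeomorph.Set.univ X).isHomeomorph.topologicalKrullDim_eq]
  refine lt_of_le_of_lt hd ?_
  have : d < (δ (genericPoint X) - δ x).toNat := by omega
  exact_mod_cast this

end Dim

variable (k : Type u) [Field k] [X.Over (Spec (CommRingCat.of k))] [IsProper (X ↘ Spec (CommRingCat.of k))]
variable [IsIntegral X] [AlgebraicGeometry.IsNoetherian X] {δ : X → ℤ} (hδ : Cyc.IsDimFun X δ) {n : ℤ}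
  (hη : δ (genericPoint X) = n)
include hδ hη

omit k in
/-- A free generator at the points of dimension at least `n - 1`. -/
theorem exists_gen_dimFun (hX : Pi1.IsNormalScheme X) {F : X.Modules} (hF : RefHull.IsRef1 F) {y : X}
    (h : n - 1 ≤ δ y) : ∃ t : F.presheaf.stalk y, Function.Bijective fun r : X.presheaf.stalk y => r • t := by
  by_cases hy : y = genericPoint X
  · subst hy
    exact RefOne.exists_gen_generic hF.2.2
  haveI := hF.1.1
  have hd : δ y = n - 1 := by
    have := dimFun_le hδ hη y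
    by_contra hne
    exact hy (eq_genericPoint_of_dimFun hδ hη (by omega))
  obtain ⟨t, ht, ht0⟩ := RefOne.exists_gen_codim_one hX hF (coheight_eq_one_of_dimFun hδ hη hd)
  exact ⟨t, RefOne.bijective_of_span ht ht0⟩

/-- Rank one classes agree with `[O]` in top dimension. -/
theorem kcl_sub_structure_mem {F : X.Modules} (hF : Coh.IsCoh F) (hgen : RefHull.GenInvertible F) :
    kcl δ n (Coh.structureModule X) - kcl δ n F ∈ fil δ n (n - 1) := by
  refine kcl_sub_mem_of_stalks δ n (dimFun_le hδ hη) (dimFun_lt hδ) (DevLib.isCoh_structureModule X) hF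
    (fun x _ => by have := dimFun_le hδ hη x; omega) (fun x _ => by have := dimFun_le hδ hη x; omega) fun y hy => ?_
  obtain rfl := eq_genericPoint_of_dimFun hδ hη (x := y) (by omega)
  obtain ⟨t, ht⟩ := RefOne.exists_gen_generic hgen
  obtain ⟨e, he⟩ := ParaFLib.exists_stalk_gen (ParaFLib.isInvertible_structureModule (X := X)) (genericPoint X)
  exact ⟨(LinearEquiv.ofBijective (LinearMap.toSpanSingleton _ _ e) he).symm ≪≫ₗ
    LinearEquiv.ofBijective (LinearMap.toSpanSingleton _ _ t) ht⟩

include k in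
/-- Additivity of rank one classes in codimension one. -/
theorem kcl_refTensor_mem (hX : Pi1.IsNormalScheme X) {H : X.Modules} (hH : CohB1.IsAmple H) {F G : X.Modules}
    (hF : RefHull.IsRef1 F) (hG : RefHull.IsRef1 G) :
    kcl δ n (RefPow.refTensor G F) + kcl δ n (Coh.structureModule X) - (kcl δ n G + kcl δ n F) ∈
      fil δ n (n - 2) := by
  have hle := dimFun_le hδ hη
  have hlt := dimFun_lt hδ
  obtain ⟨Q, φ, hQ, hφ, hb⟩ := exists_map_from_invertible k hH hG.1 hG.2.2
  haveI := hφ
  have hQc := CurveLib.isCoh_of_isInvertible hQ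
  have hC := (QCohLib.isCoh_kernel_cokernel φ hQc hG.1).2
  have hQF := CurveLib.isCoh_tmod hQc hF.1
  have hGF := CurveLib.isCoh_tmod hG.1 hF.1
  have hgenpt : ∀ {y : X}, n - 2 < δ y → ∃ t : F.presheaf.stalk y,
      Function.Bijective fun r : X.presheaf.stalk y => r • t := fun {y} hy =>
    exists_gen_dimFun hδ hη hX hF (by omega)
  have hinj : ∀ y : X, n - 2 < δ y → Function.Injective (stalkLin (tmap φ F) y) := fun y hy => by
    obtain ⟨t, ht⟩ := hgenpt hy
    let ε : X.presheaf.stalk y ≃ₗ[X.presheaf.stalk y] F.presheaf.stalk y :=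
      LinearEquiv.ofBijective (LinearMap.toSpanSingleton (X.presheaf.stalk y) (F.presheaf.stalk y) t) ht
    haveI : Module.Flat (X.presheaf.stalk y) (F.presheaf.stalk y) := Module.Flat.of_linearEquiv ε.symm
    intro a b hab
    obtain ⟨a, rfl⟩ := (stalkTensor y Q F).surjective a
    obtain ⟨b, rfl⟩ := (stalkTensor y Q F).surjective b
    rw [stalkTensor_natural_left, stalkTensor_natural_left] at hab
    exact congrArg _ (Module.Flat.rTensor_preserves_injective_linearMap (stalkLin φ y)
      ((mono_iff_stalk φ).1 inferInstance y) ((stalkTensor y G F).injective hab))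
  have hk := QCohLib.isCoh_kernel_cokernel (tmap φ F) hQF hGF
  have himg := (QCohLib.isCoh_kernel_cokernel (kernel.ι (tmap φ F)) hk.1 hQF).2
  let ψ : cokernel (kernel.ι (tmap φ F)) ⟶ tmod G F := cokernel.desc _ (tmap φ F) (kernel.condition (tmap φ F))
  haveI : Mono ψ := (inferInstanceAs (Mono (Abelian.factorThruCoimage (tmap φ F))))
  have e1 : kcl δ n (tmod G F) = kcl δ n (cokernel (kernel.ι (tmap φ F))) + kcl δ n (cokernel ψ) :=
    kcl_coker δ n hle ψ himg hGF
  have e2 : kcl δ n (tmod Q F) = kcl δ n (kernel (tmap φ F)) + kcl δ n (cokernel (kernel.ι (tmap φ F))) :=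
    kcl_coker δ n hle (kernel.ι (tmap φ F)) hk.1 hQF
  have e3 : kcl δ n (cokernel ψ) = kcl δ n (cokernel (tmap φ F)) := by
    refine kcl_iso δ n hle ?_
    have hfac : cokernel.π (kernel.ι (tmap φ F)) ≫ ψ = tmap φ F := cokernel.π_desc _ _ _
    exact (cokernelEpiComp (cokernel.π (kernel.ι (tmap φ F))) ψ).symm ≪≫ cokernelIsoOfEq hfac
  have hker : kcl δ n (kernel (tmap φ F)) ∈ fil δ n (n - 2) :=
    kcl_mem_fil δ n hk.1 fun y hy => le_of_not_gt fun hby => hy (subsingleton_of_forall_eq 0 fun v => by
      refine (mono_iff_stalk (kernel.ι (tmap φ F))).1 inferInstance y (hinj y hby ?_)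
      rw [map_zero, map_zero, ← LinearMap.comp_apply, ← stalkLin_comp, kernel.condition, DevLib.stalkLin_zero]
      rfl)
  have hηC : genericPoint X ∉ CohB1.support (cokernel φ) := DevLib.notMem_support_coker φ hb.2
  have hsmallC : ∀ y ∈ CohB1.support (cokernel φ), δ y ≤ n - 1 := fun y hy => by
    by_contra h
    exact hηC (eq_genericPoint_of_dimFun hδ hη (x := y) (by omega) ▸ hy)
  have hsmallC' : ∀ y ∈ CohB1.support (cokernel (tmap φ F)), δ y ≤ n - 1 := fun y hy => by
    by_contra h
    obtain rfl := eq_genericPoint_of_dimFun hδ hη (x := y) (by omega)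
    obtain ⟨t, ht⟩ := RefOne.exists_gen_generic hF.2.2
    obtain ⟨E⟩ := nonempty_coker_tmap φ F ht
    exact hηC fun hs => hy (by haveI := hs; exact E.toEquiv.subsingleton)
  have hcok : kcl δ n (cokernel (tmap φ F)) - kcl δ n (cokernel φ) ∈ fil δ n (n - 2) :=
    kcl_sub_mem_of_stalks δ n hle hlt hk.2 hC (fun y hy => by have := hsmallC' y hy; omega)
      (fun y hy => by have := hsmallC y hy; omega) fun y hy => by
        obtain ⟨t, ht⟩ := hgenpt (y := y) (by omega)
        exact nonempty_coker_tmap φ F ht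
  have hact : act δ n hle (dif hQ) (kcl δ n (Coh.structureModule X) - kcl δ n F) ∈ fil δ n (n - 1 - 1) :=
    act_dif_mem δ n hle hlt hQ (kcl_sub_structure_mem hδ hη hF.1 hF.2.2)
  rw [show n - 1 - 1 = n - 2 by omega, map_sub, dif, map_sub, map_one, act_of] at hact
  have e4 : kcl δ n (tmod Q F) = twC δ n hle (inv' hQ) (kcl δ n F) := by
    rw [twC_inv' δ n hle hQ hF.1]
    exact kcl_iso δ n hle (AmpleLib.comm Q F)
  have e5 : kcl δ n Q = twC δ n hle (inv' hQ) (kcl δ n (Coh.structureModule X)) := by
    rw [twC_inv' δ n hle hQ (DevLib.isCoh_structureModule X)]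
    exact kcl_iso δ n hle (AmpleLib.unitL Q).symm
  have hbid : kcl δ n (RefPow.refTensor G F) - kcl δ n (tmod G F) ∈ fil δ n (n - 2) := by
    refine kcl_sub_mem_of_bijective δ n hle (RefHull.bidualMap _) hGF (RefOne.isRef1_ddual_tensor hG hF).1
      fun y hy => ?_
    obtain ⟨t, ht⟩ := hgenpt hy
    obtain ⟨s, hs⟩ := exists_gen_dimFun hδ hη hX hG (y := y) (by omega)
    exact bijective_bidual hGF (AmpleLib.bijective_stalkTensor hs ht)
  have key : kcl δ n (RefPow.refTensor G F) + kcl δ n (Coh.structureModule X) - (kcl δ n G + kcl δ n F) =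
      (kcl δ n (RefPow.refTensor G F) - kcl δ n (tmod G F)) +
      (kcl δ n (cokernel (tmap φ F)) - kcl δ n (cokernel φ)) - kcl δ n (kernel (tmap φ F)) +
      (((1 : AddMonoid.End (KG δ n)) - twC δ n hle (inv' hQ)) (kcl δ n (Coh.structureModule X)) -
        ((1 : AddMonoid.End (KG δ n)) - twC δ n hle (inv' hQ)) (kcl δ n F)) := by
    show _ = _ + ((kcl δ n (Coh.structureModule X) - twC δ n hle (inv' hQ) (kcl δ n (Coh.structureModule X))) -
      (kcl δ n F - twC δ n hle (inv' hQ) (kcl δ n F)))
    rw [← e4, ← e5, kcl_coker δ n hle φ hQc hG.1, e1, e2, e3]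
    abel
  rw [key]
  exact add_mem (sub_mem (add_mem hbid hcok) hker) hact

end Groth.Agent.RefChLib
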