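import Groth.Agent.RefChLib.Additive

/-!
# Reflexive powers twisted by invertible modules
-/

set_option autoImplicit false
set_option backward.isDefEq.respectTransparency false
set_option linter.style.haveILetI false

universe u

open CategoryTheory CategoryTheory.Limits AlgebraicGeometry TopologicalSpace
open Groth.Agent.PullbackMod Groth.Agent.DCohLib Groth.Agent.AmpleLib
open Groth.Agent.IntLib (PicRing pairing dif inv' compMod)
open Groth.Agent.Nakai (Aug cl)
open Groth.Agent.S16085 (HasDiv)
open scoped TensorProduct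

noncomputable section

namespace Groth.Agent.RefChLib

variable {X : Scheme.{u}} [IsIntegral X] [IsLocallyNoetherian X]

theorem hasDiv_refPow (hX : Pi1.IsNormalScheme X) {F : X.Modules} {d : X → ℤ} (h : HasDiv F d) :
    ∀ m : ℕ, HasDiv (RefPow.refPow F m) (fun y => (m : ℤ) * d y)
  | 0 => by simpa using S16085.hasDiv_one hX
  | 1 => by simpa using h
  | m + 2 => by
    have e : (fun y => (((m + 2 : ℕ) : ℤ)) * d y) = fun y => ((m + 1 : ℕ) : ℤ) * d y + d y :=
      funext fun y => by push_cast; ring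
    rw [e]
    exact S16085.hasDiv_tensor hX (hasDiv_refPow hX h (m + 1)) h

/-- Twists of reflexive modules by invertible modules are reflexive. -/
theorem isReflexive_tensor {A L : X.Modules} (hA : RefHull.IsRef1 A) (hL : PicF.IsInvertible L) :
    RefHull.IsReflexive (CohB1.tensorMod A L) := by
  refine (RefOne.isReflexive_iff (CurveLib.isCoh_tmod hA.1 (CurveLib.isCoh_of_isInvertible hL))).2 fun x => ?_
  obtain ⟨t, ht⟩ := ParaFLib.exists_stalk_gen hL x
  haveI : Module.IsReflexive (X.presheaf.stalk x) (A.presheaf.stalk x) := (RefOne.isReflexive_iff hA.1).1 hA.2.1 x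
  let e : X.presheaf.stalk x ≃ₗ[X.presheaf.stalk x] L.presheaf.stalk x :=
    LinearEquiv.ofBijective (LinearMap.toSpanSingleton (X.presheaf.stalk x) (L.presheaf.stalk x) t) ht
  exact Module.equiv (((TensorProduct.rid (X.presheaf.stalk x) (A.presheaf.stalk x)).symm.trans
    (e.lTensor (A.presheaf.stalk x))).trans (stalkTensor x A L))

theorem hasDiv_twist (hX : Pi1.IsNormalScheme X) {A L : X.Modules} {a l : X → ℤ} (hA : HasDiv A a)
    (hL : HasDiv L l) (hLi : PicF.IsInvertible L) : HasDiv (CohB1.tensorMod A L) (fun y => a y + l y) := by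
  haveI : IsIso (RefHull.bidualMap (CohB1.tensorMod A L)) := isReflexive_tensor hA.1 hLi
  refine S16085.hasDiv_of_iso hX (asIso (RefHull.bidualMap (CohB1.tensorMod A L))).symm ?_
    (S16085.hasDiv_tensor hX hA hL)
  refine ⟨CurveLib.isCoh_tmod hA.1.1 hL.1.1, isReflexive_tensor hA.1 hLi, ?_⟩
  obtain ⟨e, he⟩ := RefOne.exists_gen_generic hA.1.2.2
  obtain ⟨t, ht⟩ := ParaFLib.exists_stalk_gen hLi (genericPoint X)
  exact RefOne.genInvertible_of_gen (CurveLib.isCoh_tmod hA.1.1 hL.1.1) (AmpleLib.bijective_stalkTensor he ht)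

theorem isRef1_of_isInvertible {L : X.Modules} (hL : PicF.IsInvertible L) :
    RefHull.IsRef1 L := by
  have hc := CurveLib.isCoh_of_isInvertible hL
  refine ⟨hc, (RefOne.isReflexive_iff hc).2 fun x => ?_, ?_⟩
  · obtain ⟨t, ht⟩ := ParaFLib.exists_stalk_gen hL x
    exact Module.equiv (LinearEquiv.ofBijective (LinearMap.toSpanSingleton (X.presheaf.stalk x) (L.presheaf.stalk x) t) ht)
  · obtain ⟨t, ht⟩ := ParaFLib.exists_stalk_gen hL (genericPoint X)
    exact RefOne.genInvertible_of_gen hc ht

theorem hasDiv_tensorPow (hX : Pi1.IsNormalScheme X) {L : X.Modules} {l : X → ℤ} (hL : HasDiv L l)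
    (hLi : PicF.IsInvertible L) : ∀ m : ℕ, HasDiv (CohB1.tensorPow L m) (fun y => (m : ℤ) * l y)
  | 0 => by
    have e : (fun y => ((0 : ℕ) : ℤ) * l y) = fun _ => 0 := funext fun y => by simp
    rw [e]
    exact S16085.hasDiv_one hX
  | m + 1 => by
    have e : (fun y => (((m + 1 : ℕ) : ℤ)) * l y) = fun y => (m : ℤ) * l y + l y :=
      funext fun y => by push_cast; ring
    rw [e]
    exact hasDiv_twist hX (hasDiv_tensorPow hX hL hLi m) hL hLi

/-- Reflexive powers of a twist. -/
theorem refPow_refTensor_iso (hX : Pi1.IsNormalScheme X) {F L : X.Modules} (hF : RefHull.IsRef1 F)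
    (hL : PicF.IsInvertible L) (m : ℕ) :
    Nonempty (RefPow.refPow (RefPow.refTensor F L) m ≅ CohB1.tensorMod (RefPow.refPow F m) (CohB1.tensorPow L m)) := by
  obtain ⟨d, hd⟩ := S16085.exists_hasDiv hF
  obtain ⟨l, hl⟩ := S16085.exists_hasDiv (isRef1_of_isInvertible hL)
  obtain ⟨l', hl'⟩ := S16085.exists_hasDiv (isRef1_of_isInvertible (isInvertible_tensorPow hL m))
  refine (hasDiv_refPow hX (S16085.hasDiv_tensor hX hd hl) m).iso hX
    (hasDiv_twist hX (hasDiv_refPow hX hd m) (hasDiv_tensorPow hX hl hL m) (isInvertible_tensorPow hL m))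
    fun y _ => ?_
  ring

/-- Reflexive powers of an invertible module. -/
theorem refPow_invertible_iso (hX : Pi1.IsNormalScheme X) {L : X.Modules} (hL : PicF.IsInvertible L) (m : ℕ) :
    Nonempty (RefPow.refPow L m ≅ CohB1.tensorPow L m) := by
  obtain ⟨l, hl⟩ := S16085.exists_hasDiv (isRef1_of_isInvertible hL)
  exact (hasDiv_refPow hX hl m).iso hX (hasDiv_tensorPow hX hl hL m) fun y _ => rfl

/-- The dual is the inverse. -/
theorem refTensor_dual_iso (hX : Pi1.IsNormalScheme X) {F : X.Modules} (hF : RefHull.IsRef1 F) :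
    RefHull.IsRef1 (RefHull.dual F) ∧ Nonempty (RefPow.refTensor (RefHull.dual F) F ≅ Coh.structureModule X) := by
  obtain ⟨d, hd⟩ := S16085.exists_hasDiv hF
  have h := S16085.hasDiv_dual hX hd
  exact ⟨h.1, (S16085.hasDiv_tensor hX h hd).iso hX (S16085.hasDiv_one hX) fun y _ => neg_add_cancel _⟩

variable (k : Type u) [Field k] [X.Over (Spec (CommRingCat.of k))] [IsProper (X ↘ Spec (CommRingCat.of k))]
variable (hX : Pi1.IsNormalScheme X) {H : X.Modules} (hH : CohB1.IsAmple H) {e : ℕ}
  (hn : topologicalKrullDim X = ((e + 1 : ℕ) : WithBot ℕ∞)) (M : Fin e → X.Modules)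
  (hM : ∀ i, PicF.IsInvertible (M i))

include hX hH hn in
/-- The divisor term is linear in the reflexive powers. -/
theorem pairing_refPow {F : X.Modules} (hF : RefHull.IsRef1 F) : ∀ m : ℕ,
    pairing k (RefPow.refPow F m) (∏ i, dif (hM i)) = pairing k (Coh.structureModule X) (∏ i, dif (hM i)) +
      (m : ℤ) * (pairing k F (∏ i, dif (hM i)) - pairing k (Coh.structureModule X) (∏ i, dif (hM i)))
  | 0 => by simp
  | 1 => by simp
  | m + 2 => by
    have h := pairing_refTensor k hX hH hn hF (RefOne.isRef1_refPow hF (m + 1)) M hM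
    have ih := pairing_refPow hF (m + 1)
    rw [RefPow.refPow_succ_succ]
    push_cast at ih ⊢
    linarith

include hX hH hn in
/-- The divisor term of the dual. -/
theorem pairing_dual {F : X.Modules} (hF : RefHull.IsRef1 F) :
    pairing k (RefHull.dual F) (∏ i, dif (hM i)) + pairing k F (∏ i, dif (hM i)) =
      2 * pairing k (Coh.structureModule X) (∏ i, dif (hM i)) := by
  obtain ⟨hd, ⟨ι⟩⟩ := refTensor_dual_iso hX hF
  have h := pairing_refTensor k hX hH hn hF hd M hM
  rw [IntLib.pairing_iso k ι] at h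
  linarith

end Groth.Agent.RefChLib
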