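import Groth.Agent.RefChLib.Powers

/-!
# Pairings of twists by powers
-/

set_option autoImplicit false
set_option backward.isDefEq.respectTransparency false
set_option linter.style.haveILetI false

universe u

open CategoryTheory CategoryTheory.Limits AlgebraicGeometry TopologicalSpace
open Groth.Agent.PullbackMod Groth.Agent.DCohLib Groth.Agent.AmpleLib
open Groth.Agent.IntLib (PicRing pairing dif inv' compMod)
open Groth.Agent.Nakai (Aug cl)

noncomputable section

namespace Groth.Agent.RefChLib

variable {X : Scheme.{u}}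

/-- The class of a power to second order. -/
theorem of_tensorPow_sub_mem {L : X.Modules} (hL : PicF.IsInvertible L) : ∀ m : ℕ,
    MonoidAlgebra.of ℤ (IntLib.Inv X) (inv' (isInvertible_tensorPow hL m)) -
      (1 + (m : PicRing X) * cl hL + (m.choose 2 : PicRing X) * cl hL ^ 2) ∈ Aug X ^ 3
  | 0 => by
    have h : inv' (isInvertible_tensorPow hL 0) = 1 := rfl
    rw [h, map_one]
    simp
  | m + 1 => by
    have ih := of_tensorPow_sub_mem hL m
    have hc : cl (isInvertible_tensor (isInvertible_tensorPow hL m) hL) =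
        cl (isInvertible_tensorPow hL m) + cl hL + cl (isInvertible_tensorPow hL m) * cl hL :=
      Nakai.cl_tensor (isInvertible_tensorPow hL m) hL
    have e1 : MonoidAlgebra.of ℤ (IntLib.Inv X) (inv' (isInvertible_tensorPow hL (m + 1))) =
        MonoidAlgebra.of ℤ (IntLib.Inv X) (inv' (isInvertible_tensorPow hL m)) * (1 + cl hL) := by
      show MonoidAlgebra.of ℤ (IntLib.Inv X) (inv' (isInvertible_tensor (isInvertible_tensorPow hL m) hL)) = _
      simp only [cl] at hc ⊢
      linear_combination hc
    rw [e1, Nat.choose_succ_succ', Nat.choose_one_right]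
    generalize MonoidAlgebra.of ℤ (IntLib.Inv X) (inv' (isInvertible_tensorPow hL m)) = g at ih ⊢
    have hx : cl hL ^ 3 ∈ Aug X ^ 3 := Ideal.pow_mem_pow (Nakai.cl_mem hL) 3
    convert Ideal.add_mem _ (Ideal.mul_mem_right (1 + cl hL) _ ih) (Ideal.mul_mem_left _ (m.choose 2 : PicRing X) hx)
      using 1
    push_cast
    ring

variable [IsIntegral X] [IsLocallyNoetherian X] (k : Type u) [Field k] [X.Over (Spec (CommRingCat.of k))]
  [IsProper (X ↘ Spec (CommRingCat.of k))]

omit [IsLocallyNoetherian X] in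
/-- Pairings with a twist by a power. -/
theorem pairing_twist {s : ℕ} (hn : topologicalKrullDim X = ((s + 2 : ℕ) : WithBot ℕ∞)) {F L : X.Modules}
    (hF : Coh.IsCoh F) (hL : PicF.IsInvertible L) {z : PicRing X} (hz : z ∈ Aug X ^ s) (m : ℕ) :
    pairing k (CohB1.tensorMod F (CohB1.tensorPow L m)) z =
      pairing k F z + (m : ℤ) * pairing k F (cl hL * z) + (m.choose 2 : ℤ) * pairing k F (cl hL ^ 2 * z) := by
  haveI := EulerIneqLib.isNoetherian_proper (X := X) k
  rw [← IntLib.pairing_of_mul k F (isInvertible_tensorPow hL m), Nakai.pairing_congr k (n := 3 + s)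
    (w := z + (m : ℤ) • (cl hL * z) + (m.choose 2 : ℤ) • (cl hL ^ 2 * z)) ?_ hF
    (by rw [show 3 + s = s + 2 + 1 by omega]; exact dim_lt_succ k hn F), map_add, map_add, map_zsmul, map_zsmul,
    smul_eq_mul, smul_eq_mul]
  rw [pow_add, show MonoidAlgebra.of ℤ (IntLib.Inv X) (inv' (isInvertible_tensorPow hL m)) * z -
      (z + (m : ℤ) • (cl hL * z) + (m.choose 2 : ℤ) • (cl hL ^ 2 * z)) =
    (MonoidAlgebra.of ℤ (IntLib.Inv X) (inv' (isInvertible_tensorPow hL m)) -
      (1 + (m : PicRing X) * cl hL + (m.choose 2 : PicRing X) * cl hL ^ 2)) * z by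
    rw [zsmul_eq_mul, zsmul_eq_mul, Int.cast_natCast, Int.cast_natCast]; ring]
  exact Ideal.mul_mem_mul (of_tensorPow_sub_mem hL m) hz

omit [IsIntegral X] [IsLocallyNoetherian X] in
/-- The product with a class in front. -/
theorem pairing_cl_mul {r : ℕ} (M : Fin r → X.Modules) (hM : ∀ i, PicF.IsInvertible (M i)) {L : X.Modules}
    (hL : PicF.IsInvertible L) (F : X.Modules) :
    pairing k F (cl hL * ∏ i, dif (hM i)) =
      - pairing k F (∏ i : Fin (r + 1), dif (show PicF.IsInvertible (Fin.cons (α := fun _ => X.Modules) L M i) from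
        Fin.cases (motive := fun j => PicF.IsInvertible (Fin.cons (α := fun _ => X.Modules) L M j)) hL hM i)) := by
  rw [← map_neg, Fin.prod_univ_succ, ← neg_mul, Nakai.cl_eq_neg_dif]

end Groth.Agent.RefChLib
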